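import Groth.Agent.ComodBasic.Chevalley
import Mathlib.RingTheory.Bialgebra.Convolution
import Mathlib.RingTheory.Bialgebra.Hom
import Mathlib.LinearAlgebra.Matrix.Kronecker
import Mathlib.LinearAlgebra.Matrix.Charpoly.Coeff
import Mathlib.LinearAlgebra.Matrix.Charpoly.Eigs
import Mathlib.RingTheory.IntegralClosure.Algebra.Basic
import Mathlib.FieldTheory.IsAlgClosed.AlgebraicClosure
import Mathlib.FieldTheory.IsAlgClosed.Spectrum
import Mathlib.RingTheory.Ideal.MinimalPrime.Noetherian

/-!
# Matrix corepresentations: integrality over a ring of characters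

A corepresentation is a matrix `P` with `Δ P = P ⊗ P`, `ε P = 1`.  Powers of corepresentations come
from the convolution powers of the identity, so linear relations between coefficients carry
polynomial identities.
-/

namespace Groth.Agent.CharRing

open TensorProduct CoalgebraStruct WithConv Polynomial
open scoped Kronecker

universe u v

variable {k : Type u} [CommRing k] {A : Type v} [CommRing A] [Bialgebra k A]

/-- a matrix corepresentation -/
structure IsCorep {ι : Type*} [Fintype ι] [DecidableEq ι] (P : Matrix ι ι A) : Prop where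
  comul_apply : ∀ i j, comul (R := k) (P i j) = ∑ l, P i l ⊗ₜ[k] P l j
  counit_apply : ∀ i j, counit (R := k) (P i j) = if i = j then (1 : k) else 0

variable (k A) in
/-- traces of corepresentations -/
def charSet : Set A :=
  {x | ∃ (d : ℕ) (P : Matrix (Fin d) (Fin d) A), IsCorep (k := k) P ∧ P.trace = x}

namespace IsCorep

variable {ι κ : Type*} [Fintype ι] [DecidableEq ι] [Fintype κ] [DecidableEq κ]
variable {P : Matrix ι ι A} {Q : Matrix κ κ A} (hP : IsCorep (k := k) P) (hQ : IsCorep (k := k) Q)

include hP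

theorem trace_mem : P.trace ∈ charSet k A := by
  let e := Fintype.equivFin ι
  refine ⟨_, P.submatrix e.symm e.symm, ⟨fun i j => ?_, fun i j => ?_⟩, ?_⟩
  · rw [Matrix.submatrix_apply, hP.comul_apply]
    exact (Equiv.sum_comp e.symm fun l => P (e.symm i) l ⊗ₜ[k] P l (e.symm j)).symm
  · rw [Matrix.submatrix_apply, hP.counit_apply]
    exact if_congr e.symm.injective.eq_iff rfl rfl
  · exact Equiv.sum_comp e.symm fun l => P l l

theorem map {B : Type*} [CommRing B] [Bialgebra k B] (π : A →ₐc[k] B) : IsCorep (k := k) (P.map π) :=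
  ⟨fun i j => by
    rw [Matrix.map_apply, ← CoalgHomClass.map_comp_comul_apply π, hP.comul_apply, map_sum]
    rfl,
  fun i j => by rw [Matrix.map_apply, CoalgHomClass.counit_comp_apply π, hP.counit_apply]⟩

theorem map_convMul (f g : WithConv (A →ₐ[k] A)) :
    P.map (f * g).ofConv = P.map f.ofConv * P.map g.ofConv := by
  ext i j
  rw [Matrix.map_apply, Matrix.mul_apply, AlgHom.convMul_apply, hP.comul_apply, map_sum]
  simp

theorem map_convOne : P.map (1 : WithConv (A →ₐ[k] A)).ofConv = 1 := by
  ext i j
  rw [Matrix.map_apply, AlgHom.convOne_apply, hP.counit_apply, Matrix.one_apply]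
  split <;> simp

theorem map_pow_id (N : ℕ) :
    P.map ((toConv (AlgHom.id k A)) ^ N : WithConv (A →ₐ[k] A)).ofConv = P ^ N := by
  induction N with
  | zero => rw [pow_zero, pow_zero, hP.map_convOne]
  | succ N ih =>
    rw [pow_succ, pow_succ, hP.map_convMul, ih]
    rfl

include hQ

theorem kronecker : IsCorep (k := k) (P ⊗ₖ Q) := by
  refine ⟨fun i j => ?_, fun i j => ?_⟩
  · simp only [Matrix.kroneckerMap_apply, Bialgebra.comul_mul, hP.comul_apply, hQ.comul_apply,
      Finset.sum_mul_sum, Fintype.sum_prod_type, Algebra.TensorProduct.tmul_mul_tmul]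
  · simp only [Matrix.kroneckerMap_apply, Bialgebra.counit_mul, hP.counit_apply, hQ.counit_apply,
      ite_mul, mul_ite, one_mul, mul_zero, zero_mul, Prod.ext_iff]
    split_ifs <;> simp_all

theorem fromBlocks : IsCorep (k := k) (Matrix.fromBlocks P 0 0 Q) := by
  refine ⟨fun i j => ?_, fun i j => ?_⟩
  · rcases i with i | i <;> rcases j with j | j <;>
      simp [Fintype.sum_sum_type, hP.comul_apply, hQ.comul_apply]
  · rcases i with i | i <;> rcases j with j | j <;> simp [hP.counit_apply, hQ.counit_apply]

end IsCorep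

theorem isCorep_one : IsCorep (k := k) (1 : Matrix Unit Unit A) :=
  ⟨fun i j => by simp [Bialgebra.comul_one, Algebra.TensorProduct.one_def], fun i j => by simp⟩

section Exterior

variable {k : Type u} [Field k] [CharZero k] {A : Type v} [CommRing A] [Bialgebra k A]
variable {ι : Type*} [Fintype ι] [DecidableEq ι]

/-- the trace on the image of a commuting idempotent is a character -/
theorem trace_mul_mem {P : Matrix ι ι A} (hP : IsCorep (k := k) P) (e : Matrix ι ι k)
    (he : e * e = e) (hc : P * e.map (algebraMap k A) = e.map (algebraMap k A) * P) :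
    (P * e.map (algebraMap k A)).trace ∈ charSet k A := by
  classical
  let W := LinearMap.range e.mulVecLin
  let b := Module.finBasis k W
  let J : Matrix (Fin (Module.finrank k W)) ι k :=
    LinearMap.toMatrix (Pi.basisFun k ι) b e.mulVecLin.rangeRestrict
  let I : Matrix ι (Fin (Module.finrank k W)) k := LinearMap.toMatrix b (Pi.basisFun k ι) W.subtype
  have hIJ : I * J = e := by
    rw [← LinearMap.toMatrix_comp (Pi.basisFun k ι) b (Pi.basisFun k ι)]
    have : W.subtype ∘ₗ e.mulVecLin.rangeRestrict = e.mulVecLin := rfl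
    rw [this, LinearMap.toMatrix_eq_toMatrix', ← Matrix.toLin'_apply', LinearMap.toMatrix'_toLin']
  have hJI : J * I = 1 := by
    rw [← LinearMap.toMatrix_comp b (Pi.basisFun k ι) b]
    have : e.mulVecLin.rangeRestrict ∘ₗ W.subtype = LinearMap.id := by
      refine LinearMap.ext fun w => Subtype.ext ?_
      obtain ⟨x, hx⟩ := w.2
      show e.mulVecLin (w : ι → k) = (w : ι → k)
      rw [← hx]
      simp [Matrix.mulVec_mulVec, he]
    rw [this, LinearMap.toMatrix_id]
  let J' := J.map (algebraMap k A)
  let I' := I.map (algebraMap k A)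
  let P' := J' * P * I'
  have hP' : IsCorep (k := k) P' := by
    let D : A →ₐ[k] A ⊗[k] A := Bialgebra.comulAlgHom k A
    let L : A →ₐ[k] A ⊗[k] A := Algebra.TensorProduct.includeLeft
    let Rr : A →ₐ[k] A ⊗[k] A := Algebra.TensorProduct.includeRight
    have hsc : ∀ (X : Matrix ι ι k) (F : A →ₐ[k] A ⊗[k] A),
        (X.map (algebraMap k A)).map F = X.map (algebraMap k (A ⊗[k] A)) := by
      intro X F
      ext a b
      simp
    have hscI : ∀ (F : A →ₐ[k] A ⊗[k] A), I'.map F = I.map (algebraMap k (A ⊗[k] A)) := by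
      intro F
      ext a b
      simp [I']
    have hscJ : ∀ (F : A →ₐ[k] A ⊗[k] A), J'.map F = J.map (algebraMap k (A ⊗[k] A)) := by
      intro F
      ext a b
      simp [J']
    have hPD : P.map D = P.map L * P.map Rr := by
      ext a b
      simp [D, L, Rr, Matrix.mul_apply, hP.comul_apply]
    refine ⟨fun i j => ?_, fun i j => ?_⟩
    · have hPL : P'.map D = P'.map L * P'.map Rr := by
        have heI : e * I = I := by rw [← hIJ, Matrix.mul_assoc, hJI, Matrix.mul_one]
        have hce : P.map Rr * e.map (algebraMap k (A ⊗[k] A)) = e.map (algebraMap k (A ⊗[k] A)) * P.map Rr := by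
          rw [← hsc e Rr, ← Matrix.map_mul, hc, Matrix.map_mul]
        have hIJ2 : I.map (algebraMap k (A ⊗[k] A)) * J.map (algebraMap k (A ⊗[k] A)) =
            e.map (algebraMap k (A ⊗[k] A)) := by rw [← Matrix.map_mul, hIJ]
        have heI2 : e.map (algebraMap k (A ⊗[k] A)) * I.map (algebraMap k (A ⊗[k] A)) =
            I.map (algebraMap k (A ⊗[k] A)) := by rw [← Matrix.map_mul, heI]
        simp only [P', Matrix.map_mul, hscI, hscJ, hPD]
        simp only [Matrix.mul_assoc]
        rw [← Matrix.mul_assoc (I.map _) (J.map _), hIJ2, ← Matrix.mul_assoc (e.map _) (P.map Rr), ← hce,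
          Matrix.mul_assoc, heI2]
      have h6 := congrFun (congrFun hPL i) j
      simpa [D, L, Rr, Matrix.mul_apply] using h6
    · have h4 : P'.map (Bialgebra.counitAlgHom k A) = 1 := by
        have hP1 : P.map (Bialgebra.counitAlgHom k A) = 1 := by
          ext a b; simp [hP.counit_apply, Matrix.one_apply]
        have hI1 : I'.map (Bialgebra.counitAlgHom k A) = I := by ext a b; simp [I']
        have hJ1 : J'.map (Bialgebra.counitAlgHom k A) = J := by ext a b; simp [J']
        rw [Matrix.map_mul, Matrix.map_mul, hP1, hI1, hJ1, Matrix.mul_one, hJI]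
      have h5 := congrFun (congrFun h4 i) j
      simpa [Matrix.one_apply] using h5
  have htr : P'.trace = (P * e.map (algebraMap k A)).trace := by
    rw [← hIJ, Matrix.map_mul]
    show (J' * P * I').trace = (P * (I' * J')).trace
    rw [Matrix.mul_assoc, Matrix.trace_mul_comm, Matrix.mul_assoc]
  exact htr ▸ hP'.trace_mem

/-- sums of principal minors -/
theorem sum_det_submatrix (P : Matrix ι ι A) (n : ℕ) :
    ∑ f : Fin n → ι, (P.submatrix f f).det =
      (n.factorial : A) * ∑ s ∈ Finset.univ.powersetCard n,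
        (P.submatrix (Subtype.val : s → ι) (Subtype.val : s → ι)).det := by
  classical
  rw [← Finset.sum_filter_add_sum_filter_not Finset.univ fun f : Fin n → ι => Function.Injective f]
  rw [Finset.sum_eq_zero (s := Finset.univ.filter fun f : Fin n → ι => ¬ Function.Injective f) ?_,
    add_zero, ← Finset.sum_fiberwise_of_maps_to (t := Finset.univ.powersetCard n)
      (g := fun f : Fin n → ι => Finset.univ.image f) ?_, Finset.mul_sum]
  · refine Finset.sum_congr rfl fun s hs => ?_
    have hcard : Fintype.card s = Fintype.card (Fin n) := by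
      rw [Fintype.card_coe, Fintype.card_fin, (Finset.mem_powersetCard.1 hs).2]
    let emb : (Fin n ≃ s) ↪ (Fin n → ι) := ⟨fun g r => g r, fun g g' h => Equiv.ext fun r =>
      Subtype.ext (congrFun h r)⟩
    rw [show Finset.filter (fun f => Finset.univ.image f = s)
      (Finset.univ.filter fun f : Fin n → ι => Function.Injective f) = Finset.univ.map emb from ?_,
      Finset.sum_map]
    · have hdet : ∀ g : Fin n ≃ s, (P.submatrix (emb g) (emb g)).det =
          (P.submatrix (Subtype.val : s → ι) (Subtype.val : s → ι)).det := fun g => by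
        rw [← Matrix.det_submatrix_equiv_self g]
        rfl
      rw [Finset.sum_congr rfl fun g _ => hdet g, Finset.sum_const, Finset.card_univ, nsmul_eq_mul,
        Fintype.card_equiv (Fintype.equivOfCardEq hcard.symm), Fintype.card_fin]
    · ext f
      simp only [Finset.mem_filter, Finset.mem_univ, true_and, Finset.mem_map]
      constructor
      · rintro ⟨hf, rfl⟩
        refine ⟨Equiv.ofBijective (fun r => ⟨f r, Finset.mem_image_of_mem f (Finset.mem_univ r)⟩)
          ⟨fun a b h => hf (congrArg Subtype.val h), fun ⟨y, hy⟩ => ?_⟩, rfl⟩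
        obtain ⟨r, -, rfl⟩ := Finset.mem_image.1 hy
        exact ⟨r, rfl⟩
      · rintro ⟨g, rfl⟩
        refine ⟨fun a b h => g.injective (Subtype.ext h), ?_⟩
        ext y
        simp only [Finset.mem_image, Finset.mem_univ, true_and]
        exact ⟨fun ⟨r, hr⟩ => hr ▸ (g r).2, fun hy => ⟨g.symm ⟨y, hy⟩, by simp [emb]⟩⟩
  · intro f hf
    rw [Finset.mem_powersetCard]
    exact ⟨Finset.subset_univ _, by
      rw [Finset.card_image_of_injective _ (Finset.mem_filter.1 hf).2, Finset.card_univ, Fintype.card_fin]⟩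
  · intro f hf
    obtain ⟨a, b, hab, hne⟩ := Function.not_injective_iff.1 (Finset.mem_filter.1 hf).2
    exact Matrix.det_zero_of_row_eq hne (funext fun r => by simp [hab])

/-- the coefficients of the characteristic polynomial are combinations of characters -/
theorem charpoly_coeff_mem {P : Matrix ι ι A} (hP : IsCorep (k := k) P) (i : ℕ) :
    P.charpoly.coeff i ∈ Algebra.adjoin k (charSet k A) := by
  classical
  suffices h : ∀ n, ∑ s ∈ Finset.univ.powersetCard n,
      (P.submatrix (Subtype.val : s → ι) (Subtype.val : s → ι)).det ∈ Algebra.adjoin k (charSet k A) by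
    nontriviality A
    rcases le_or_gt i (Fintype.card ι) with hi | hi
    · rw [show i = Fintype.card ι - (Fintype.card ι - i) by omega,
        Matrix.charpoly_coeff_eq_sum_minors P _ (Nat.sub_le _ _)]
      exact mul_mem (pow_mem (neg_mem (one_mem _)) _) (h _)
    · rw [coeff_eq_zero_of_natDegree_lt (by rw [Matrix.charpoly_natDegree_eq_dim]; exact hi)]
      exact zero_mem _
  intro n
  let T : Matrix (Fin n → ι) (Fin n → ι) A := fun f h => ∏ r, P (f r) (h r)
  have hT : IsCorep (k := k) T := by
    refine ⟨fun f h => ?_, fun f h => ?_⟩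
    · change Bialgebra.comulAlgHom k A (∏ r, P (f r) (h r)) = _
      rw [map_prod]
      change ∏ r, comul (R := k) (P (f r) (h r)) = _
      simp only [hP.comul_apply]
      rw [Finset.prod_univ_sum, Fintype.piFinset_univ]
      refine Finset.sum_congr rfl fun l _ => ?_
      simp only [T]
      induction (Finset.univ : Finset (Fin n)) using Finset.induction_on with
      | empty => simp [Algebra.TensorProduct.one_def]
      | insert r s hr ih => simp [Finset.prod_insert hr, ih, Algebra.TensorProduct.tmul_mul_tmul]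
    · change Bialgebra.counitAlgHom k A (∏ r, P (f r) (h r)) = _
      rw [map_prod]
      change ∏ r, counit (R := k) (P (f r) (h r)) = _
      simp only [hP.counit_apply]
      by_cases hfh : f = h
      · simp [hfh]
      · rw [if_neg hfh]
        obtain ⟨r, hr⟩ : ∃ r, f r ≠ h r := Function.ne_iff.1 hfh
        exact Finset.prod_eq_zero (Finset.mem_univ r) (if_neg hr)
  let E : Matrix (Fin n → ι) (Fin n → ι) k := fun f h =>
    (Matrix.of fun r r' => (1 : Matrix ι ι k) (f r) (h r')).det
  have hEA : ∀ f h, algebraMap k A (E f h) =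
      (Matrix.of fun r r' => (1 : Matrix ι ι A) (f r) (h r')).det := fun f h => by
    rw [RingHom.map_det]
    congr 1
    ext r r'
    simp [Matrix.one_apply, apply_ite (algebraMap k A)]
  have hTE : ∀ f g, (T * E.map (algebraMap k A)) f g = (P.submatrix f g).det := fun f g => by
    rw [Matrix.mul_apply]
    simp only [Matrix.map_apply, hEA, T]
    exact (ComodBasic.det_submatrix_expand P f g).symm
  have hET : ∀ f g, (E.map (algebraMap k A) * T) f g = (P.submatrix f g).det := fun f g => by
    rw [Matrix.mul_apply, ← Matrix.det_transpose]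
    refine Eq.trans ?_ (ComodBasic.det_submatrix_expand P.transpose g f).symm
    refine Finset.sum_congr rfl fun h _ => ?_
    simp only [Matrix.map_apply, hEA, T]
    rw [mul_comm, ← Matrix.det_transpose (Matrix.of _)]
    congr 2
    ext r r'
    simp [Matrix.one_apply, eq_comm]
  have hEE : E * E = (n.factorial : k) • E := by
    ext f g
    rw [Matrix.mul_apply]
    have h1 : ∀ h : Fin n → ι, E f h = ∑ σ : Equiv.Perm (Fin n),
        ((Equiv.Perm.sign σ : ℤ) : k) * ∏ r, (1 : Matrix ι ι k) (f (σ r)) (h r) := fun h => by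
      simp only [E, Matrix.det_apply', Matrix.of_apply]
    simp only [h1, Finset.sum_mul]
    rw [Finset.sum_comm]
    have h2 : ∀ σ : Equiv.Perm (Fin n), ∑ h : Fin n → ι,
        ((Equiv.Perm.sign σ : ℤ) : k) * (∏ r, (1 : Matrix ι ι k) (f (σ r)) (h r)) * E h g = E f g := by
      intro σ
      simp only [mul_assoc, ← Finset.mul_sum]
      have h3 := (ComodBasic.det_submatrix_expand (1 : Matrix ι ι k) (fun r => f (σ r)) g).symm
      rw [h3]
      have h4 := Matrix.det_permute σ (Matrix.of fun r r' => (1 : Matrix ι ι k) (f r) (g r'))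
      rw [show (Matrix.of fun r r' => (1 : Matrix ι ι k) (f (σ r)) (g r')) =
        (Matrix.of fun r r' => (1 : Matrix ι ι k) (f r) (g r')).submatrix σ id from rfl, h4, ← mul_assoc,
        ← Int.cast_mul, ← Units.val_mul, Int.units_mul_self, Units.val_one, Int.cast_one, one_mul]
    rw [Finset.sum_congr rfl fun σ _ => h2 σ, Finset.sum_const, Finset.card_univ, Fintype.card_perm,
      Fintype.card_fin, Matrix.smul_apply, nsmul_eq_mul, smul_eq_mul]
  have hn : (n.factorial : k) ≠ 0 := Nat.cast_ne_zero.2 n.factorial_ne_zero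
  have hmem := trace_mul_mem hT ((n.factorial : k)⁻¹ • E)
    (by rw [Matrix.smul_mul, Matrix.mul_smul, hEE, smul_smul, smul_smul, mul_assoc, inv_mul_cancel₀ hn,
      mul_one])
    (by
      rw [Matrix.map_smul' (algebraMap k A) _ E (map_mul _), Matrix.mul_smul, Matrix.smul_mul]
      congr 1
      ext f g
      rw [hTE, hET])
  have heq : (T * ((n.factorial : k)⁻¹ • E).map (algebraMap k A)).trace =
      ∑ s ∈ Finset.univ.powersetCard n,
        (P.submatrix (Subtype.val : s → ι) (Subtype.val : s → ι)).det := by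
    rw [Matrix.map_smul' (algebraMap k A) _ E (map_mul _), Matrix.mul_smul, Matrix.trace_smul,
      Matrix.trace]
    simp only [Matrix.diag, hTE]
    rw [sum_det_submatrix, smul_eq_mul, ← map_natCast (algebraMap k A), ← mul_assoc, ← map_mul,
      inv_mul_cancel₀ hn, map_one, one_mul]
  exact heq ▸ Algebra.subset_adjoin hmem

end Exterior

section Integral

variable {k : Type u} [Field k] {B : Type v} [CommRing B] [Bialgebra k B] (R : Subalgebra k B)

/-- `b` is a combination of coefficients of a corepresentation integral over `R` -/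
def IntCoeff : Submodule k B where
  carrier := {b | ∃ (ι : Type) (_ : Fintype ι) (_ : DecidableEq ι) (M : Matrix ι ι B),
    IsCorep (k := k) M ∧ IsIntegral R M ∧
      b ∈ Submodule.span k (Set.range fun x : ι × ι => M x.1 x.2)}
  add_mem' := by
    rintro a b ⟨ι, _, _, M, hM, hMi, ha⟩ ⟨κ, _, _, N, hN, hNi, hb⟩
    let Φ : (Matrix ι ι B × Matrix κ κ B) →ₐ[R] Matrix (ι ⊕ κ) (ι ⊕ κ) B :=
      { toFun := fun X => Matrix.fromBlocks X.1 0 0 X.2
        map_one' := Matrix.fromBlocks_one
        map_zero' := Matrix.fromBlocks_zero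
        map_add' := fun X Y => by simp [Matrix.fromBlocks_add]
        map_mul' := fun X Y => by simp [Matrix.fromBlocks_multiply]
        commutes' := fun r => by
          rw [Algebra.algebraMap_eq_smul_one, Algebra.algebraMap_eq_smul_one]
          ext (i | i) (j | j) <;> simp [Matrix.one_apply] }
    refine ⟨ι ⊕ κ, inferInstance, inferInstance, Φ (M, N), hM.fromBlocks hN, ?_, add_mem ?_ ?_⟩
    · obtain ⟨p, hp, hpM⟩ := hMi
      obtain ⟨q, hq, hqN⟩ := hNi
      rw [← aeval_def] at hpM hqN
      refine IsIntegral.map Φ ⟨p * q, hp.mul hq, ?_⟩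
      rw [← aeval_def]
      refine Prod.ext ?_ ?_
      · rw [← AlgHom.fst_apply (R := R), ← aeval_algHom_apply, map_mul]
        simp [hpM]
      · rw [← AlgHom.snd_apply (R := R), ← aeval_algHom_apply, map_mul]
        simp [hqN]
    · refine Submodule.span_mono ?_ ha
      rintro _ ⟨⟨i, j⟩, rfl⟩
      exact ⟨(Sum.inl i, Sum.inl j), rfl⟩
    · refine Submodule.span_mono ?_ hb
      rintro _ ⟨⟨i, j⟩, rfl⟩
      exact ⟨(Sum.inr i, Sum.inr j), rfl⟩
  zero_mem' := ⟨Unit, inferInstance, inferInstance, 1, isCorep_one, isIntegral_one, zero_mem _⟩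
  smul_mem' := by
    rintro c a ⟨ι, _, _, M, hM, hMi, ha⟩
    exact ⟨ι, inferInstance, inferInstance, M, hM, hMi, Submodule.smul_mem _ c ha⟩

theorem one_mem_intCoeff : (1 : B) ∈ IntCoeff R :=
  ⟨Unit, inferInstance, inferInstance, 1, isCorep_one, isIntegral_one,
    Submodule.subset_span ⟨((), ()), by simp⟩⟩

theorem mul_mem_intCoeff {a b : B} (ha : a ∈ IntCoeff R) (hb : b ∈ IntCoeff R) : a * b ∈ IntCoeff R := by
  obtain ⟨ι, _, _, M, hM, hMi, ha⟩ := ha
  obtain ⟨κ, _, _, N, hN, hNi, hb⟩ := hb
  refine ⟨ι × κ, inferInstance, inferInstance, M ⊗ₖ N, hM.kronecker hN, ?_, ?_⟩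
  · let l : Matrix ι ι B →ₐ[R] Matrix (ι × κ) (ι × κ) B :=
      { toFun := fun X => X ⊗ₖ (1 : Matrix κ κ B)
        map_one' := Matrix.one_kronecker_one
        map_zero' := Matrix.zero_kronecker _
        map_add' := fun X Y => Matrix.add_kronecker X Y _
        map_mul' := fun X Y => by rw [← Matrix.mul_kronecker_mul, one_mul]
        commutes' := fun r => by
          rw [Algebra.algebraMap_eq_smul_one, Matrix.smul_kronecker, Matrix.one_kronecker_one,
            Algebra.algebraMap_eq_smul_one] }
    let r : Matrix κ κ B →ₐ[R] Matrix (ι × κ) (ι × κ) B :=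
      { toFun := fun X => (1 : Matrix ι ι B) ⊗ₖ X
        map_one' := Matrix.one_kronecker_one
        map_zero' := Matrix.kronecker_zero _
        map_add' := fun X Y => Matrix.kronecker_add _ X Y
        map_mul' := fun X Y => by rw [← Matrix.mul_kronecker_mul, one_mul]
        commutes' := fun r => by
          rw [Algebra.algebraMap_eq_smul_one, Matrix.kronecker_smul, Matrix.one_kronecker_one,
            Algebra.algebraMap_eq_smul_one] }
    have hprod : l M * r N = M ⊗ₖ N := by
      show M ⊗ₖ (1 : Matrix κ κ B) * ((1 : Matrix ι ι B) ⊗ₖ N) = _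
      rw [← Matrix.mul_kronecker_mul, mul_one, one_mul]
    have hcomm : Commute (l M) (r N) := by
      show M ⊗ₖ (1 : Matrix κ κ B) * ((1 : Matrix ι ι B) ⊗ₖ N) = ((1 : Matrix ι ι B) ⊗ₖ N) * (M ⊗ₖ (1 : Matrix κ κ B))
      rw [← Matrix.mul_kronecker_mul, ← Matrix.mul_kronecker_mul]
      simp
    let S := Algebra.adjoin R ({l M, r N} : Set (Matrix (ι × κ) (ι × κ) B))
    have hS : ∀ a ∈ ({l M, r N} : Set (Matrix (ι × κ) (ι × κ) B)),
        ∀ b ∈ ({l M, r N} : Set (Matrix (ι × κ) (ι × κ) B)), a * b = b * a := by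
      rintro a (rfl | rfl) b (rfl | rfl)
      exacts [rfl, hcomm, hcomm.symm, rfl]
    letI : CommRing S :=
      { (inferInstance : Ring S) with
        mul_comm := fun a b => Subtype.ext (Algebra.commute_of_mem_adjoin_of_forall_mem_commute a.2 fun x hx =>
          (Algebra.commute_of_mem_adjoin_of_forall_mem_commute b.2 fun y hy => hS x hx y hy).symm).eq.symm }
    have hlS : l M ∈ S := Algebra.subset_adjoin (Set.mem_insert _ _)
    have hrS : r N ∈ S := Algebra.subset_adjoin (Set.mem_insert_of_mem _ rfl)
    have h1 : IsIntegral R (⟨l M, hlS⟩ : S) :=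
      (isIntegral_algHom_iff S.val Subtype.val_injective).1 (hMi.map l)
    have h2 : IsIntegral R (⟨r N, hrS⟩ : S) :=
      (isIntegral_algHom_iff S.val Subtype.val_injective).1 (hNi.map r)
    exact hprod ▸ (h1.mul h2).map S.val
  · have h := Submodule.mul_mem_mul ha hb
    rw [Submodule.span_mul_span] at h
    refine Submodule.span_mono ?_ h
    rintro _ ⟨_, ⟨⟨i, j⟩, rfl⟩, _, ⟨⟨p, q⟩, rfl⟩, rfl⟩
    exact ⟨((i, p), (j, q)), rfl⟩

theorem adjoin_le_intCoeff {ι : Type} [Fintype ι] [DecidableEq ι] {h : Matrix ι ι B}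
    (hh : IsCorep (k := k) h) (hi : IsIntegral R h) {b : B}
    (hb : b ∈ Algebra.adjoin k (Set.range fun x : ι × ι => h x.1 x.2)) : b ∈ IntCoeff R := by
  induction hb using Algebra.adjoin_induction with
  | mem x hx => exact ⟨ι, inferInstance, inferInstance, h, hh, hi, Submodule.subset_span hx⟩
  | algebraMap c =>
    rw [Algebra.algebraMap_eq_smul_one]
    exact Submodule.smul_mem _ c (one_mem_intCoeff R)
  | add x y _ _ hx hy => exact add_mem hx hy
  | mul x y _ _ hx hy => exact mul_mem_intCoeff R hx hy

/-- a corepresentation all of whose coefficients are integral coefficients is integral -/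
theorem isIntegral_of_coeff {ι : Type} [Fintype ι] [DecidableEq ι] {T : Matrix ι ι B}
    (hT : IsCorep (k := k) T) (h : ∀ i j, T i j ∈ IntCoeff R) : IsIntegral R T := by
  classical
  obtain ⟨κ, _, _, M, hM, hMi, hspan⟩ : ∃ (κ : Type) (_ : Fintype κ) (_ : DecidableEq κ)
      (M : Matrix κ κ B), IsCorep (k := k) M ∧ IsIntegral R M ∧
        ∀ x : ι × ι, T x.1 x.2 ∈ Submodule.span k (Set.range fun y : κ × κ => M y.1 y.2) := by
    suffices key : ∀ s : Finset (ι × ι), ∃ (κ : Type) (_ : Fintype κ) (_ : DecidableEq κ)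
        (M : Matrix κ κ B), IsCorep (k := k) M ∧ IsIntegral R M ∧
          ∀ x ∈ s, T x.1 x.2 ∈ Submodule.span k (Set.range fun y : κ × κ => M y.1 y.2) by
      obtain ⟨κ, i1, i2, M, h1, h2, h3⟩ := key Finset.univ
      exact ⟨κ, i1, i2, M, h1, h2, fun x => h3 x (Finset.mem_univ x)⟩
    intro s
    induction s using Finset.induction_on with
    | empty => exact ⟨Unit, inferInstance, inferInstance, 1, isCorep_one, isIntegral_one, by simp⟩
    | insert x s _ ih =>
      obtain ⟨κ, _, _, M, hM, hMi, hMs⟩ := ih
      obtain ⟨μ, _, _, N, hN, hNi, hNx⟩ := h x.1 x.2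
      let Φ : (Matrix κ κ B × Matrix μ μ B) →ₐ[R] Matrix (κ ⊕ μ) (κ ⊕ μ) B :=
        { toFun := fun X => Matrix.fromBlocks X.1 0 0 X.2
          map_one' := Matrix.fromBlocks_one
          map_zero' := Matrix.fromBlocks_zero
          map_add' := fun X Y => by simp [Matrix.fromBlocks_add]
          map_mul' := fun X Y => by simp [Matrix.fromBlocks_multiply]
          commutes' := fun r => by
            rw [Algebra.algebraMap_eq_smul_one, Algebra.algebraMap_eq_smul_one]
            ext (i | i) (j | j) <;> simp [Matrix.one_apply] }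
      refine ⟨κ ⊕ μ, inferInstance, inferInstance, Φ (M, N), hM.fromBlocks hN, ?_, ?_⟩
      · obtain ⟨p, hp, hpM⟩ := hMi
        obtain ⟨q, hq, hqN⟩ := hNi
        rw [← aeval_def] at hpM hqN
        refine IsIntegral.map Φ ⟨p * q, hp.mul hq, ?_⟩
        rw [← aeval_def]
        refine Prod.ext ?_ ?_
        · rw [← AlgHom.fst_apply (R := R), ← aeval_algHom_apply, map_mul]
          simp [hpM]
        · rw [← AlgHom.snd_apply (R := R), ← aeval_algHom_apply, map_mul]
          simp [hqN]
      · intro y hy
        rcases Finset.mem_insert.1 hy with rfl | hy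
        · refine Submodule.span_mono ?_ hNx
          rintro _ ⟨⟨i, j⟩, rfl⟩
          exact ⟨(Sum.inr i, Sum.inr j), rfl⟩
        · refine Submodule.span_mono ?_ (hMs y hy)
          rintro _ ⟨⟨i, j⟩, rfl⟩
          exact ⟨(Sum.inl i, Sum.inl j), rfl⟩
  obtain ⟨p, hp, hpM⟩ := hMi
  rw [← aeval_def] at hpM
  refine ⟨p, hp, ?_⟩
  rw [← aeval_def]
  have hc : ∀ x : ι × ι, ∃ c : κ × κ → k, ∑ y, c y • M y.1 y.2 = T x.1 x.2 := fun x =>
    (Submodule.mem_span_range_iff_exists_fun k).1 (hspan x)
  choose c hc using hc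
  suffices key : ∀ q : R[X], ∀ i j, aeval T q i j = ∑ y, c (i, j) y • aeval M q y.1 y.2 by
    ext i j
    rw [key, hpM]
    simp
  intro q
  induction q using Polynomial.induction_on' with
  | add p q hp hq =>
    intro i j
    simp only [map_add, Matrix.add_apply, smul_add, Finset.sum_add_distrib, hp, hq]
  | monomial n r =>
    intro i j
    simp only [aeval_monomial, ← Algebra.smul_def, Matrix.smul_apply]
    have h1 : (T ^ n) i j = ∑ y, c (i, j) y • (M ^ n) y.1 y.2 := by
      rw [← hT.map_pow_id n, ← hM.map_pow_id n]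
      simp only [Matrix.map_apply]
      rw [← hc (i, j), map_sum]
      simp only [map_smul]
    rw [h1, Finset.smul_sum]
    exact Finset.sum_congr rfl fun y _ => smul_comm r _ _

/-- over a reduced ring the trace of an integral matrix is integral -/
theorem isIntegral_trace {S B : Type*} [CommRing S] [CommRing B] [Algebra S B] [IsReduced B]
    [IsNoetherianRing B] {ι : Type*} [Fintype ι] [DecidableEq ι] {T : Matrix ι ι B}
    (hT : IsIntegral S T) : IsIntegral S T.trace := by
  classical
  obtain ⟨q, hq, hqT⟩ := hT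
  rw [← aeval_def] at hqT
  have hfin : (minimalPrimes B).Finite := minimalPrimes.finite_of_isNoetherianRing B
  have hP : ∀ P ∈ hfin.toFinset, ∃ f : S[X], f.Monic ∧ aeval T.trace f ∈ P := by
    intro P hP
    have hPp : P.IsPrime := (hfin.mem_toFinset.1 hP).1.1
    let F := AlgebraicClosure (FractionRing (B ⧸ P))
    let φ : B →ₐ[S] F := (IsScalarTower.toAlgHom S (B ⧸ P) F).comp (Ideal.Quotient.mkₐ S P)
    let T' := T.map φ
    have hT' : aeval T' q = 0 := by
      rw [show T' = φ.mapMatrix T from rfl, aeval_algHom_apply, hqT, map_zero]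
    have hroot : ∀ μ ∈ T'.charpoly.roots, IsIntegral S μ := by
      intro μ hμ
      refine ⟨q, hq, ?_⟩
      have hn : Nonempty ι := by
        by_contra hne
        rw [not_nonempty_iff] at hne
        simp [Matrix.charpoly, Matrix.det_isEmpty] at hμ
      have hμ' : μ ∈ spectrum F T' := Matrix.mem_spectrum_iff_isRoot_charpoly.2 (isRoot_of_mem_roots hμ)
      have h2 := spectrum.subset_polynomial_aeval T' (q.map (algebraMap S F)) ⟨μ, hμ', rfl⟩
      rw [aeval_map_algebraMap, hT', spectrum.zero_eq] at h2
      rw [← eval_map]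
      exact h2
    have htr : IsIntegral S T'.trace := by
      rw [Matrix.trace_eq_sum_roots_charpoly]
      exact IsIntegral.multiset_sum hroot
    obtain ⟨f, hf, hfT⟩ := htr
    refine ⟨f, hf, ?_⟩
    rw [← aeval_def, show T'.trace = φ T.trace from (map_sum φ _ _).symm, aeval_algHom_apply] at hfT
    have hinj : Function.Injective (algebraMap (B ⧸ P) F) := by
      rw [IsScalarTower.algebraMap_eq (B ⧸ P) (FractionRing (B ⧸ P)) F]
      exact (algebraMap (FractionRing (B ⧸ P)) F).injective.comp (IsFractionRing.injective _ _)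
    exact Ideal.Quotient.eq_zero_iff_mem.1 (hinj (hfT.trans (map_zero _).symm))
  choose f hf hfP using hP
  refine ⟨∏ P ∈ hfin.toFinset.attach, f P.1 P.2, monic_prod_of_monic _ _ fun P _ => hf _ _, ?_⟩
  rw [← aeval_def]
  have h : aeval T.trace (∏ P ∈ hfin.toFinset.attach, f P.1 P.2) ∈ sInf (minimalPrimes B) := by
    rw [Ideal.mem_sInf]
    intro P hP
    rw [map_prod, ← Finset.mul_prod_erase _ _ (Finset.mem_attach _ ⟨P, hfin.mem_toFinset.2 hP⟩)]
    exact P.mul_mem_right _ (hfP P _)
  replace h : _ ∈ sInf (⊥ : Ideal B).minimalPrimes := h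
  rw [Ideal.sInf_minimalPrimes] at h
  exact (show IsNilpotent _ by simpa [Ideal.radical, IsNilpotent] using h).eq_zero

end Integral

end Groth.Agent.CharRing
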